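import Cfsg.Agent.H506.NRowDef
import Cfsg.Agent.H531.RealMove

/-!
# S4307, row R3: the criterion (task 1377, helper587)

`q` is an odd prime dividing `ρ - 1`. A noncyclic subgroup `B` of exponent `ρ` all of whose elements `x` are
conjugate to `x ^ (c ^ 2)`, `c` a primitive root modulo `ρ`, is impossible under `NCtx' q T`.
-/

set_option autoImplicit false

namespace Cfsg.Agent.H587.NRow

open Subgroup Cfsg.Agent.H506.NRow

/-- `x` is conjugate to `x ^ (c ^ 2)` for a primitive root `c` modulo `ρ` -/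
def Semi (ρ : ℕ) {T : Type*} [Group T] (x : T) : Prop :=
  ∃ c : ℕ, orderOf (c : ZMod ρ) = ρ - 1 ∧ IsConj x (x ^ (c ^ 2))

section basic

variable {T : Type*} [Group T] {ρ : ℕ}

theorem isConj_pow {x y : T} (h : IsConj x y) (n : ℕ) : IsConj (x ^ n) (y ^ n) := by
  obtain ⟨g, hg⟩ := isConj_iff.1 h
  exact isConj_iff.2 ⟨g, by rw [← hg, conj_pow]⟩

theorem Semi.conj {x y : T} (h : Semi ρ x) (hxy : IsConj x y) : Semi ρ y := by
  obtain ⟨c, hc, hx⟩ := h
  exact ⟨c, hc, (hxy.symm.trans hx).trans (isConj_pow hxy _)⟩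

theorem Semi.map {U : Type*} [Group U] (f : T →* U) {x : T} (h : Semi ρ x) : Semi ρ (f x) := by
  obtain ⟨c, hc, hx⟩ := h
  refine ⟨c, hc, ?_⟩
  rw [← map_pow]
  exact f.map_isConj hx

theorem isConj_pow_pow {x : T} {k : ℕ} (h : IsConj x (x ^ k)) (j : ℕ) : IsConj x (x ^ (k ^ j)) := by
  induction j with
  | zero => rw [pow_zero, pow_one]
  | succ j ih =>
    have h1 := isConj_pow h (k ^ j)
    rw [← pow_mul, mul_comm, ← pow_succ] at h1
    exact ih.trans h1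

/-- the class of `x` has index the index of the centraliser -/
theorem card_class [Finite T] (y : T) : Nat.card {z : T // IsConj y z} = (centralizer ({y} : Set T)).index := by
  have h1 := (MulAction.stabilizer (ConjAct T) y).card_mul_index
  have h2 := MulAction.index_stabilizer (ConjAct T) y
  have h3 := Subgroup.nat_card_centralizer_nat_card_stabilizer y
  have h4 := (centralizer ({y} : Set T)).card_mul_index
  have h5 : (MulAction.orbit (ConjAct T) y).ncard = Nat.card {z : T // IsConj y z} := by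
    rw [← Nat.card_coe_set_eq]
    refine Nat.card_congr (Equiv.subtypeEquivRight fun z => ?_)
    show z ∈ MulAction.orbit (ConjAct T) y ↔ _
    rw [ConjAct.mem_orbit_conjAct, isConj_comm]
  rw [← h3, h2, h5] at h1
  have h6 : Nat.card (ConjAct T) = Nat.card T := rfl
  rw [h6, ← h4] at h1
  exact Nat.eq_of_mul_eq_mul_left Nat.card_pos h1

/-- If `x` is semi-rational, the size of its class is divisible by `q`. -/
theorem Semi.dvd [Finite T] (hρ : ρ.Prime) {q : ℕ} (hq : q.Prime) (hq2 : q ≠ 2) (hd : q ∣ ρ - 1) {x : T}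
    (hx : x ^ ρ = 1) (hx1 : x ≠ 1) (h : Semi ρ x) : q ∣ Nat.card {y : T // IsConj x y} := by
  obtain ⟨c, hc, hcx⟩ := h
  obtain ⟨m, hm⟩ := hd
  have hρ1 : 0 < ρ - 1 := by have := hρ.two_le; omega
  have hm0 : 0 < m := by
    rcases Nat.eq_zero_or_pos m with h | h
    · rw [h, mul_zero] at hm; omega
    · exact h
  set r := (c ^ 2) ^ m with hr
  have hox : orderOf x = ρ := by
    have : Fact ρ.Prime := ⟨hρ⟩
    exact orderOf_eq_prime hx hx1
  -- the order of `r` modulo `ρ` is `q`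
  have hrq : orderOf ((r : ℕ) : ZMod ρ) = q := by
    have h1 : ((r : ℕ) : ZMod ρ) = (c : ZMod ρ) ^ (2 * m) := by
      rw [hr, ← pow_mul]; push_cast; rfl
    rw [h1, orderOf_pow' _ (by omega), hc, hm]
    have h2 : Nat.gcd (q * m) (2 * m) = m := by
      rw [Nat.gcd_mul_right]
      have h3 : Nat.gcd q 2 = 1 := (Nat.coprime_primes hq Nat.prime_two).2 hq2
      rw [h3, one_mul]
    rw [h2, Nat.mul_div_cancel _ hm0]
  have hrq1 : r ^ q ≡ 1 [MOD ρ] := by
    rw [← ZMod.natCast_eq_natCast_iff, Nat.cast_pow, Nat.cast_one, ← hrq]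
    exact pow_orderOf_eq_one _
  have hr1 : ¬ r ≡ 1 [MOD ρ] := by
    intro h1
    rw [← ZMod.natCast_eq_natCast_iff, Nat.cast_one] at h1
    rw [h1, orderOf_one] at hrq
    exact hq.one_lt.ne hrq
  have hcr : ∀ y : T, IsConj x y → IsConj x (y ^ r) := fun y hy =>
    (isConj_pow_pow hcx m).trans (isConj_pow hy _)
  have hoy : ∀ y : T, IsConj x y → orderOf y = ρ := by
    intro y hy
    obtain ⟨g, hg⟩ := isConj_iff.1 hy
    rw [← hg, ← hox]
    exact (MulEquiv.orderOf_eq (MulAut.conj g) x)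
  have hmod : ∀ y : T, IsConj x y → ∀ a b : ℕ, a ≡ b [MOD ρ] → y ^ a = y ^ b := by
    intro y hy a b hab
    rw [pow_eq_pow_iff_modEq, hoy y hy]
    exact hab
  obtain ⟨j, hj⟩ : ∃ j, q = j + 1 := ⟨q - 1, by have := hq.two_le; omega⟩
  classical
  let σ : Equiv.Perm {y : T // IsConj x y} :=
    { toFun := fun y => ⟨y.1 ^ r, hcr _ y.2⟩
      invFun := fun y => ⟨y.1 ^ (r ^ j), by
        have h1 : IsConj x (x ^ (r ^ j)) := by
          have := isConj_pow_pow hcx (m * j)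
          rwa [pow_mul] at this
        exact h1.trans (isConj_pow y.2 _)⟩
      left_inv := fun y => Subtype.ext (by
        show (y.1 ^ r) ^ (r ^ j) = y.1
        rw [← pow_mul, mul_comm, ← pow_succ, ← hj, hmod _ y.2 _ _ hrq1, pow_one])
      right_inv := fun y => Subtype.ext (by
        show (y.1 ^ (r ^ j)) ^ r = y.1
        rw [← pow_mul, ← pow_succ, ← hj, hmod _ y.2 _ _ hrq1, pow_one]) }
  have hσ : ∀ (n : ℕ) (y : {y : T // IsConj x y}), ((σ ^ n) y).1 = y.1 ^ (r ^ n) := by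
    intro n
    induction n with
    | zero => intro y; rw [pow_zero, pow_zero, pow_one]; rfl
    | succ n ih =>
      intro y
      rw [pow_succ, Equiv.Perm.mul_apply, ih]
      show (y.1 ^ r) ^ (r ^ n) = _
      rw [← pow_mul, pow_succ, mul_comm]
  have hσq : σ ^ q ^ 1 = 1 := by
    ext y
    rw [pow_one, hσ, hmod _ y.2 _ _ hrq1, pow_one]
    rfl
  by_contra hcon
  have : Fact q.Prime := ⟨hq⟩
  have : Fintype {y : T // IsConj x y} := Fintype.ofFinite _
  rw [Nat.card_eq_fintype_card] at hcon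
  obtain ⟨y, hy⟩ := Equiv.Perm.exists_fixed_point_of_prime hcon hσq
  have h1 : y.1 ^ r = y.1 := congrArg Subtype.val hy
  have h2 : y.1 ^ r = y.1 ^ 1 := by rw [h1, pow_one]
  rw [pow_eq_pow_iff_modEq, hoy _ y.2] at h2
  exact hr1 h2

/-- A semi-rational element of order `ρ` is not nice. -/
theorem Semi.not_nice [Finite T] (hρ : ρ.Prime) {q : ℕ} (hq : q.Prime) (hq2 : q ≠ 2) (hd : q ∣ ρ - 1) {x : T}
    (hx : x ^ ρ = 1) (hx1 : x ≠ 1) (h : Semi ρ x) : ¬ Nice q x := by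
  rintro ⟨-, Q, hQ, -⟩
  have h1 := h.dvd hρ hq hq2 hd hx hx1
  rw [card_class] at h1
  have hle : (Q : Subgroup T) ≤ centralizer ({x} : Set T) := by
    intro y hy
    rw [mem_centralizer_singleton_iff]
    exact hQ y hy
  have : Fact q.Prime := ⟨hq⟩
  exact Q.not_dvd_index (h1.trans (index_dvd_of_le hle))

theorem not_isCyclic_of {B : Subgroup T} (hρ : ρ.Prime) (he : ∀ x ∈ B, x ^ ρ = 1) {x₁ x₂ : T} (h1 : x₁ ∈ B)
    (h11 : x₁ ≠ 1) (h2 : x₂ ∈ B) (h21 : x₂ ∉ zpowers x₁) : ¬ IsCyclic B := by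
  intro hc
  have : Fact ρ.Prime := ⟨hρ⟩
  obtain ⟨z, hz⟩ := hc.exists_generator
  have ho : orderOf x₁ = ρ := orderOf_eq_prime (he _ h1) h11
  have hzρ : (z : T) ^ ρ = 1 := he _ z.2
  have hle : zpowers x₁ ≤ zpowers (z : T) := by
    rw [zpowers_le]
    obtain ⟨i, hi⟩ := mem_zpowers_iff.1 (hz ⟨x₁, h1⟩)
    exact mem_zpowers_iff.2 ⟨i, congrArg Subtype.val hi⟩
  have hz1 : (z : T) ≠ 1 := by
    intro h
    rw [h, zpowers_one_eq_bot, le_bot_iff, zpowers_eq_bot] at hle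
    exact h11 hle
  have hzo : orderOf (z : T) = ρ := orderOf_eq_prime hzρ hz1
  have heq : zpowers x₁ = zpowers (z : T) := by
    have : Finite (zpowers (z : T)) := by
      apply Nat.finite_of_card_ne_zero
      rw [Nat.card_zpowers, hzo]; exact hρ.ne_zero
    apply eq_of_le_of_card_ge hle
    rw [Nat.card_zpowers, Nat.card_zpowers, ho, hzo]
  apply h21
  rw [heq]
  obtain ⟨i, hi⟩ := mem_zpowers_iff.1 (hz ⟨x₂, h2⟩)
  exact mem_zpowers_iff.2 ⟨i, congrArg Subtype.val hi⟩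

/-- **The criterion.** -/
theorem false_of [Finite T] {q : ℕ} (h : NCtx' q T) (hρ : ρ.Prime) (hd : q ∣ ρ - 1) (B : Subgroup T)
    (he : ∀ x ∈ B, x ^ ρ = 1) {x₁ x₂ : T} (h1 : x₁ ∈ B) (h11 : x₁ ≠ 1) (h2 : x₂ ∈ B) (h21 : x₂ ∉ zpowers x₁)
    (hs : ∀ x ∈ B, Semi ρ x) : False := by
  have hρ2 : ρ ≠ 2 := by
    rintro rfl
    exact absurd (Nat.le_of_dvd (by norm_num) hd) (by have := h.prime.two_le; omega)
  have hB : IsPGroup ρ B := fun x => ⟨1, Subtype.ext (by rw [pow_one]; exact he _ x.2)⟩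
  obtain ⟨x, hx, hxo, hn⟩ := h.noncyc ρ hρ hρ2 B hB (not_isCyclic_of hρ he h1 h11 h2 h21)
  have hx1 : x ≠ 1 := by
    rintro rfl
    rw [orderOf_one] at hxo
    exact hρ.one_lt.ne hxo
  exact (hs x hx).not_nice hρ h.prime h.odd hd (he x hx) hx1 hn

end basic

/-! ### homomorphisms of `SL₂` -/

section sl

open Cfsg.Agent.ChevalleyStructure.SL2Hom

variable {ρ : ℕ} {K : Type*} [Field K]

theorem up_mul (a b : K) : (up a * up b : Matrix.SpecialLinearGroup (Fin 2) K) = up (a + b) := by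
  apply Subtype.ext
  show !![(1 : K), a; 0, 1] * !![(1 : K), b; 0, 1] = !![(1 : K), a + b; 0, 1]
  rw [Matrix.mul_fin_two]
  ext i j
  fin_cases i <;> fin_cases j <;> simp [add_comm]

theorem up_zero : (up 0 : Matrix.SpecialLinearGroup (Fin 2) K) = 1 := by
  apply Subtype.ext
  show !![(1 : K), 0; 0, 1] = 1
  ext i j
  fin_cases i <;> fin_cases j <;> simp

theorem up_pow (a : K) (n : ℕ) : (up a : Matrix.SpecialLinearGroup (Fin 2) K) ^ n = up (n * a) := by
  induction n with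
  | zero => rw [pow_zero, Nat.cast_zero, zero_mul, up_zero]
  | succ n ih =>
    rw [pow_succ, ih, up_mul]
    congr 1
    push_cast
    ring

theorem up_injective : Function.Injective (up : K → Matrix.SpecialLinearGroup (Fin 2) K) := by
  intro a b h
  have := congrArg (fun g : Matrix.SpecialLinearGroup (Fin 2) K => g.1 0 1) h
  simpa [up] using this

/-- the root group as a homomorphism -/
def upHom (K : Type*) [Field K] : Multiplicative K →* Matrix.SpecialLinearGroup (Fin 2) K :=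
  MonoidHom.mk' (fun t => up (Multiplicative.toAdd t)) (fun _ _ => (up_mul _ _).symm)

theorem upHom_apply (t : Multiplicative K) : upHom K t = up (Multiplicative.toAdd t) := rfl

/-- `up 1` and `lo 1` do not commute -/
theorem up_lo_ne {t : K} (ht : t ≠ 0) : (up t * lo 1 : Matrix.SpecialLinearGroup (Fin 2) K) ≠ lo 1 * up t := by
  intro h
  have h1 := congrArg (fun g : Matrix.SpecialLinearGroup (Fin 2) K => g.1 0 0) h
  have h2 : (up t * lo 1 : Matrix.SpecialLinearGroup (Fin 2) K).1 0 0 = 1 + t := by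
    show (!![(1 : K), t; 0, 1] * !![(1 : K), 0; 1, 1]) 0 0 = 1 + t
    simp [Matrix.mul_apply, Fin.sum_univ_two]
  have h3 : (lo 1 * up t : Matrix.SpecialLinearGroup (Fin 2) K).1 0 0 = 1 := by
    show (!![(1 : K), 0; 1, 1] * !![(1 : K), t; 0, 1]) 0 0 = 1
    simp [Matrix.mul_apply, Fin.sum_univ_two]
  simp only [h2, h3] at h1
  exact ht (left_eq_add.1 h1.symm)

theorem exists_primroot (hρ : ρ.Prime) : ∃ c : ℕ, orderOf (c : ZMod ρ) = ρ - 1 := by
  have : Fact ρ.Prime := ⟨hρ⟩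
  obtain ⟨g, hg⟩ := IsCyclic.exists_generator (α := (ZMod ρ)ˣ)
  refine ⟨(g : ZMod ρ).val, ?_⟩
  rw [ZMod.natCast_zmod_val, orderOf_units, orderOf_eq_card_of_forall_mem_zpowers hg, Nat.card_eq_fintype_card,
    ZMod.card_units]

theorem cast_ne_zero (hρ : ρ.Prime) [CharP K ρ] {c : ℕ} (hc : orderOf (c : ZMod ρ) = ρ - 1) : (c : K) ≠ 0 := by
  intro h
  have h1 : ρ ∣ c := (CharP.cast_eq_zero_iff K ρ c).1 h
  have h2 : (c : ZMod ρ) = 0 := (ZMod.natCast_eq_zero_iff c ρ).2 h1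
  rw [h2] at hc
  have : Fact ρ.Prime := ⟨hρ⟩
  have h3 : orderOf (0 : ZMod ρ) = 0 := by
    rw [orderOf_eq_zero_iff']
    intro n hn
    rw [zero_pow hn.ne']
    exact zero_ne_one
  rw [h3] at hc
  have := hρ.two_le
  omega

theorem diag_up {c : K} (hc : c ≠ 0) (t : K) :
    Cfsg.Agent.H531.diagSL K (Units.mk0 c hc) * up t * (Cfsg.Agent.H531.diagSL K (Units.mk0 c hc))⁻¹ =
      up (c ^ 2 * t) := by
  rw [mul_inv_eq_iff_eq_mul]
  apply Subtype.ext
  show !![c, 0; 0, (((Units.mk0 c hc)⁻¹ : Kˣ) : K)] * !![(1 : K), t; 0, 1] =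
    !![(1 : K), c ^ 2 * t; 0, 1] * !![c, 0; 0, (((Units.mk0 c hc)⁻¹ : Kˣ) : K)]
  have h1 : (((Units.mk0 c hc)⁻¹ : Kˣ) : K) = c⁻¹ := by simp
  rw [h1, Matrix.mul_fin_two, Matrix.mul_fin_two]
  ext i j
  fin_cases i <;> fin_cases j <;> simp
  field_simp

/-- every element of the root group of `SL₂` is semi-rational -/
theorem semi_up (hρ : ρ.Prime) [CharP K ρ] (t : K) : Semi ρ (up t : Matrix.SpecialLinearGroup (Fin 2) K) := by
  obtain ⟨c, hc⟩ := exists_primroot hρ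
  refine ⟨c, hc, isConj_iff.2 ⟨Cfsg.Agent.H531.diagSL K (Units.mk0 (c : K) (cast_ne_zero hρ hc)), ?_⟩⟩
  rw [diag_up, up_pow]
  push_cast
  rfl

theorem up_pow_char [CharP K ρ] (t : K) : (up t : Matrix.SpecialLinearGroup (Fin 2) K) ^ ρ = 1 := by
  rw [up_pow, CharP.cast_eq_zero, zero_mul, up_zero]

variable {G T : Type*} [Group G] [Group T] {q : ℕ}

/-- `K ≠ F_ρ` : one subgroup `SL₂(K)` -/
theorem false_of_single [Finite T] [Finite K] [CharP K ρ] (pr : G →* T) (hk : pr.ker ≤ center G)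
    (f : Matrix.SpecialLinearGroup (Fin 2) K →* G) (hi : Function.Injective f) (hcard : ρ < Nat.card K)
    (h : NCtx' q T) (hρ : ρ.Prime) (hd : q ∣ ρ - 1) : False := by
  set φ := pr.comp f with hφ
  have hker : ∀ t : K, φ (up t) = 1 → t = 0 := by
    intro t ht
    by_contra ht0
    have h1 : f (up t) ∈ center G := hk ht
    have h2 := mem_center_iff.1 h1 (f (lo 1))
    rw [← map_mul, ← map_mul] at h2
    exact up_lo_ne ht0 (hi h2).symm
  -- an element outside of the prime field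
  obtain ⟨t, ht⟩ : ∃ t : K, ∀ n : ℕ, (n : K) ≠ t := by
    by_contra hcon
    push Not at hcon
    have : Fact ρ.Prime := ⟨hρ⟩
    have hsurj : Function.Surjective (ZMod.castHom (dvd_refl ρ) K) := by
      intro t
      obtain ⟨n, hn⟩ := hcon t
      exact ⟨n, by rw [map_natCast]; exact hn⟩
    have := Nat.card_le_card_of_surjective _ hsurj
    rw [Nat.card_zmod] at this
    omega
  refine false_of h hρ hd (φ.comp (upHom K)).range (x₁ := φ (up 1)) (x₂ := φ (up t)) ?_ ⟨Multiplicative.ofAdd 1, rfl⟩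
    ?_ ⟨Multiplicative.ofAdd t, rfl⟩ ?_ ?_
  · rintro _ ⟨s, rfl⟩
    show φ (up (Multiplicative.toAdd s)) ^ ρ = 1
    rw [← map_pow, up_pow_char, map_one]
  · intro h1
    exact one_ne_zero (hker 1 h1)
  · intro h1
    obtain ⟨n, hn⟩ := (mem_powers_iff_mem_zpowers (x := φ (up 1)) (y := φ (up t))).2 h1
    have h2 : φ (up ((n : K) - t)) = 1 := by
      have h3 : (up ((n : K) - t) : Matrix.SpecialLinearGroup (Fin 2) K) = up 1 ^ n * (up t)⁻¹ := by
        rw [eq_mul_inv_iff_mul_eq, up_mul, up_pow]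
        congr 1
        ring
      rw [h3, map_mul, map_pow, map_inv]
      have h4 : φ (up 1) ^ n = φ (up t) := hn
      rw [h4, mul_inv_cancel]
    exact ht n (sub_eq_zero.1 (hker _ h2))
  · rintro _ ⟨s, rfl⟩
    exact (semi_up hρ (Multiplicative.toAdd s)).map φ

/-- two commuting subgroups `SL₂(K)` -/
theorem false_of_pair [Finite T] [CharP K ρ] (pr : G →* T) (hk : pr.ker ≤ center G)
    (f₁ f₂ : Matrix.SpecialLinearGroup (Fin 2) K →* G) (i₁ : Function.Injective f₁) (i₂ : Function.Injective f₂)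
    (hcomm : ∀ a b, f₁ a * f₂ b = f₂ b * f₁ a)
    (h : NCtx' q T) (hρ : ρ.Prime) (hd : q ∣ ρ - 1) : False := by
  set φ₁ := pr.comp f₁ with hφ₁
  set φ₂ := pr.comp f₂ with hφ₂
  have hc : ∀ a b, Commute (φ₁ a) (φ₂ b) := by
    intro a b
    show pr (f₁ a) * pr (f₂ b) = pr (f₂ b) * pr (f₁ a)
    rw [← map_mul, hcomm, map_mul]
  have hcu : ∀ a b, Commute ((φ₁.comp (upHom K)) a) ((φ₂.comp (upHom K)) b) := fun a b => hc _ _
  let Φ := (φ₁.comp (upHom K)).noncommCoprod (φ₂.comp (upHom K)) hcu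
  have hΦ : ∀ a b : K, Φ (Multiplicative.ofAdd a, Multiplicative.ofAdd b) = φ₁ (up a) * φ₂ (up b) := fun a b => rfl
  refine false_of h hρ hd Φ.range (x₁ := φ₁ (up 1)) (x₂ := φ₂ (up 1)) ?_
    ⟨(Multiplicative.ofAdd 1, Multiplicative.ofAdd 0), ?_⟩ ?_
    ⟨(Multiplicative.ofAdd 0, Multiplicative.ofAdd 1), ?_⟩ ?_ ?_
  · rintro _ ⟨⟨s, t⟩, rfl⟩
    show (φ₁ (up (Multiplicative.toAdd s)) * φ₂ (up (Multiplicative.toAdd t))) ^ ρ = 1
    rw [(hc _ _).mul_pow, ← map_pow, ← map_pow, up_pow_char, up_pow_char, map_one, map_one, one_mul]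
  · rw [hΦ, up_zero, map_one, mul_one]
  · intro h1
    have h2 : f₁ (up 1) ∈ center G := hk h1
    have h3 := mem_center_iff.1 h2 (f₁ (lo 1))
    rw [← map_mul, ← map_mul] at h3
    exact up_lo_ne one_ne_zero (i₁ h3).symm
  · rw [hΦ, up_zero, map_one, one_mul]
  · intro h1
    obtain ⟨n, hn⟩ := mem_zpowers_iff.1 h1
    -- `f₂ (up 1) = f₁ (up 1) ^ n * z`
    set z := (f₁ (up 1) ^ n)⁻¹ * f₂ (up 1) with hz
    have hzc : z ∈ center G := by
      apply hk
      rw [MonoidHom.mem_ker, hz, map_mul, map_inv, map_zpow]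
      have h2 : pr (f₁ (up 1)) ^ n = pr (f₂ (up 1)) := hn
      rw [h2, inv_mul_cancel]
    have h2 : f₂ (up 1) = f₁ (up 1) ^ n * z := by rw [hz]; group
    have h3 : f₂ (up 1) * f₂ (lo 1) = f₂ (lo 1) * f₂ (up 1) := by
      have h4 : f₁ (up 1) ^ n * f₂ (lo 1) = f₂ (lo 1) * f₁ (up 1) ^ n := by
        rw [← map_zpow]
        exact hcomm _ _
      rw [h2, mul_assoc, ← (mem_center_iff.1 hzc (f₂ (lo 1))), ← mul_assoc, h4, mul_assoc]
    rw [← map_mul, ← map_mul] at h3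
    exact up_lo_ne one_ne_zero (i₂ h3)
  · rintro _ ⟨⟨s, t⟩, rfl⟩
    obtain ⟨c, hc1⟩ := exists_primroot hρ
    have hc0 := cast_ne_zero (K := K) hρ hc1
    refine ⟨c, hc1, isConj_iff.2 ⟨φ₁ (Cfsg.Agent.H531.diagSL K (Units.mk0 (c : K) hc0)) *
      φ₂ (Cfsg.Agent.H531.diagSL K (Units.mk0 (c : K) hc0)), ?_⟩⟩
    set D := Cfsg.Agent.H531.diagSL K (Units.mk0 (c : K) hc0) with hD
    show φ₁ D * φ₂ D * (φ₁ (up (Multiplicative.toAdd s)) * φ₂ (up (Multiplicative.toAdd t))) * (φ₁ D * φ₂ D)⁻¹ =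
      (φ₁ (up (Multiplicative.toAdd s)) * φ₂ (up (Multiplicative.toAdd t))) ^ (c ^ 2)
    set a := up (Multiplicative.toAdd s) with ha
    set b := up (Multiplicative.toAdd t) with hb
    have e1 : D * a * D⁻¹ = a ^ (c ^ 2) := by
      rw [hD, ha, diag_up, up_pow]; push_cast; rfl
    have e2 : D * b * D⁻¹ = b ^ (c ^ 2) := by
      rw [hD, hb, diag_up, up_pow]; push_cast; rfl
    rw [(hc a b).mul_pow, ← map_pow, ← map_pow, ← e1, ← e2]
    simp only [map_mul, map_inv]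
    calc φ₁ D * φ₂ D * (φ₁ a * φ₂ b) * (φ₁ D * φ₂ D)⁻¹
        = φ₁ D * (φ₂ D * φ₁ a) * φ₂ b * ((φ₂ D)⁻¹ * (φ₁ D)⁻¹) := by group
      _ = φ₁ D * (φ₁ a * φ₂ D) * φ₂ b * ((φ₂ D)⁻¹ * (φ₁ D)⁻¹) := by rw [(hc a D).eq]
      _ = φ₁ D * φ₁ a * ((φ₂ D * φ₂ b * (φ₂ D)⁻¹) * (φ₁ D)⁻¹) := by group
      _ = φ₁ D * φ₁ a * ((φ₁ D)⁻¹ * (φ₂ D * φ₂ b * (φ₂ D)⁻¹)) := by
          have h1 : Commute (φ₁ D⁻¹) (φ₂ (D * b * D⁻¹)) := hc _ _
          have h2 := h1.eq
          simp only [map_mul, map_inv] at h2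
          rw [h2]
      _ = φ₁ D * φ₁ a * (φ₁ D)⁻¹ * (φ₂ D * φ₂ b * (φ₂ D)⁻¹) := by group

end sl


end Cfsg.Agent.H587.NRow
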